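import Mathlib
import Cfsg.Agent.H580.Cop
import Cfsg.Agent.S0660
import Cfsg.Agent.Lib.FrattiniPGroup
import Cfsg.Agent.S0012

/-!
# Maximal invariant subgroups
-/

set_option autoImplicit false
open scoped Pointwise commutatorElement

namespace Cfsg.Agent.H580.MaxInv

variable {A G : Type*} [Group A] [Group G] [MulDistribMulAction A G]

/-- `M` is `A`-invariant -/
def Inv (A : Type*) {G : Type*} [Group A] [Group G] [MulDistribMulAction A G] (M : Subgroup G) : Prop :=
  ∀ a : A, ∀ x ∈ M, a • x ∈ M

/-- `M` is a maximal `A`-invariant subgroup -/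
def IsMaxInv (A : Type*) {G : Type*} [Group A] [Group G] [MulDistribMulAction A G] (M : Subgroup G) : Prop :=
  M ≠ ⊤ ∧ (∀ a : A, ∀ x ∈ M, a • x ∈ M) ∧ ∀ L : Subgroup G, M < L → (∀ a : A, ∀ x ∈ L, a • x ∈ L) → L = ⊤

/-- A proper invariant subgroup lies in a maximal invariant subgroup. -/
theorem exists_maxInv [Finite G] {H : Subgroup G} (hH : H ≠ ⊤) (hinv : Inv A H) :
    ∃ M : Subgroup G, H ≤ M ∧ IsMaxInv A M := by
  classical
  let S : Set (Subgroup G) := {M | H ≤ M ∧ M ≠ ⊤ ∧ Inv A M}
  have hfin : S.Finite := Set.toFinite S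
  have hne : S.Nonempty := ⟨H, le_rfl, hH, hinv⟩
  obtain ⟨M, hM⟩ := hfin.exists_maximal hne
  refine ⟨M, hM.1.1, hM.1.2.1, hM.1.2.2, ?_⟩
  intro L hML hL
  by_contra hLt
  have := hM.2 (y := L) ⟨hM.1.1.trans hML.le, hLt, hL⟩ hML.le
  exact absurd this (not_le_of_gt hML)

theorem Inv.sup {H K : Subgroup G} (hH : Inv A H) (hK : Inv A K) : Inv A (H ⊔ K) := by
  intro a x hx
  have h1 : H ⊔ K ≤ (H ⊔ K).comap (MulDistribMulAction.toMonoidHom G a) := by
    refine sup_le ?_ ?_
    · intro y hy
      exact Subgroup.mem_sup_left (hH a y hy)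
    · intro y hy
      exact Subgroup.mem_sup_right (hK a y hy)
  exact h1 hx

theorem Inv.inf {H K : Subgroup G} (hH : Inv A H) (hK : Inv A K) : Inv A (H ⊓ K) := fun a x hx =>
  Subgroup.mem_inf.mpr ⟨hH a x (Subgroup.mem_inf.mp hx).1, hK a x (Subgroup.mem_inf.mp hx).2⟩

/-- Characteristic subgroups are invariant. -/
theorem inv_of_characteristic (H : Subgroup G) [hH : H.Characteristic] : Inv A H := by
  intro a x hx
  have h1 := hH.fixed (MulDistribMulAction.toMulAut A G a)
  have h2 : x ∈ H.comap (MulDistribMulAction.toMulAut A G a).toMonoidHom := by rw [h1]; exact hx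
  exact h2

/-- the normalizer of an invariant subgroup is invariant -/
theorem Inv.normalizer {H : Subgroup G} (hH : Inv A H) : Inv A (Subgroup.normalizer (H : Set G)) := by
  intro a x hx
  rw [Subgroup.mem_normalizer_iff] at hx ⊢
  intro h
  have key : ∀ b : A, ∀ y : G, y ∈ H ↔ b • y ∈ H := by
    intro b y
    refine ⟨hH b y, fun h => ?_⟩
    have := hH b⁻¹ _ h
    rwa [inv_smul_smul] at this
  have h1 := hx (a⁻¹ • h)
  rw [← key a⁻¹ h] at h1
  rw [h1, key a]
  rw [smul_mul', smul_mul', smul_inv', smul_inv_smul]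

/-- A maximal invariant subgroup contains the Frattini subgroup. -/
theorem frattini_le [Finite G] {M : Subgroup G} (hM : IsMaxInv A M) : frattini G ≤ M := by
  by_contra h
  have h1 : M < M ⊔ frattini G := by
    refine lt_of_le_of_ne le_sup_left ?_
    intro h2
    exact h (h2 ▸ le_sup_right)
  have h2 := hM.2.2 _ h1 (Inv.sup hM.2.1 (inv_of_characteristic (frattini G)))
  exact hM.1 (frattini_nongenerating h2)

/-- In a `p`-group with `A` irreducible on the Frattini quotient, the maximal invariant subgroups. -/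
theorem eq_frattini [Finite G] (hirr : ∀ L : Subgroup G, frattini G < L → (∀ a : A, ∀ x ∈ L, a • x ∈ L) → L = ⊤)
    {M : Subgroup G} (hM : IsMaxInv A M) : M = frattini G := by
  rcases (frattini_le hM).eq_or_lt with h | h
  · exact h.symm
  · exact absurd (hirr M h hM.2.1) hM.1

/-- If all maximal invariant subgroups have the same order, and the action is coprime, then `G` is a `p`-group. -/
theorem isPGroup_of_card_eq [Finite A] [Finite G] (hcop : (Nat.card A).Coprime (Nat.card G))
    (hsol : Group.IsSolvable A ∨ Group.IsSolvable G)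
    (h : ∀ M N : Subgroup G, IsMaxInv A M → IsMaxInv A N → Nat.card M = Nat.card N) :
    ∃ p : ℕ, p.Prime ∧ IsPGroup p G := by
  by_contra hno
  push Not at hno
  -- each prime divisor divides the index of no maximal invariant subgroup
  have hG : Nat.card G ≠ 1 := by
    intro h1
    apply hno 2 Nat.prime_two
    have : Subsingleton G := (Nat.card_eq_one_iff_unique.mp h1).1
    exact IsPGroup.of_card (n := 0) (by simpa using h1)
  have key : ∀ p : ℕ, p.Prime → p ∣ Nat.card G → ∃ M : Subgroup G, IsMaxInv A M ∧ ¬ p ∣ M.index := by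
    intro p hp hpG
    have := Fact.mk hp
    obtain ⟨P, hP⟩ := Cop.exists_invariant_sylow (A := A) (G := G) hcop hsol p
    have hPtop : (P : Subgroup G) ≠ ⊤ := by
      intro htop
      apply hno p hp
      have h1 := P.2
      rw [htop] at h1
      exact h1.of_equiv Subgroup.topEquiv
    obtain ⟨M, hPM, hM⟩ := exists_maxInv hPtop hP
    refine ⟨M, hM, fun hdvd => ?_⟩
    exact P.not_dvd_index (hdvd.trans (Subgroup.index_dvd_of_le hPM))
  obtain ⟨p, hp, hpG⟩ := Nat.exists_prime_and_dvd hG
  obtain ⟨M, hM, hMp⟩ := key p hp hpG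
  have hidx : M.index = 1 := by
    by_contra hne
    obtain ⟨q, hq, hqM⟩ := Nat.exists_prime_and_dvd hne
    have hqG : q ∣ Nat.card G := hqM.trans (Subgroup.index_dvd_card M)
    obtain ⟨N, hN, hNq⟩ := key q hq hqG
    have h1 := h M N hM hN
    have h2 := M.card_mul_index
    have h3 := N.card_mul_index
    rw [← h1] at h3
    have h4 : M.index = N.index := Nat.eq_of_mul_eq_mul_left Nat.card_pos (h2.trans h3.symm)
    exact hNq (h4 ▸ hqM)
  exact hM.1 (Subgroup.index_eq_one.mp hidx)

/-- The induced action on the quotient by an invariant normal subgroup. -/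
@[reducible] def quotAct {N : Subgroup G} [N.Normal] (hN : Inv A N) : MulDistribMulAction A (G ⧸ N) where
  smul a := QuotientGroup.map N N (MulDistribMulAction.toMonoidHom G a) (fun x hx => hN a x hx)
  one_smul x := by
    induction x using QuotientGroup.induction_on with | H x =>
    change (((1 : A) • x : G) : G ⧸ N) = _
    rw [one_smul]
  mul_smul a b x := by
    induction x using QuotientGroup.induction_on with | H x =>
    change (((a * b) • x : G) : G ⧸ N) = ((a • b • x : G) : G ⧸ N)
    rw [mul_smul]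
  smul_mul a x y := map_mul (QuotientGroup.map N N (MulDistribMulAction.toMonoidHom G a) (fun x hx => hN a x hx)) x y
  smul_one a := map_one (QuotientGroup.map N N (MulDistribMulAction.toMonoidHom G a) (fun x hx => hN a x hx))

/-- **Maschke**: an invariant complement in the Frattini quotient. -/
theorem exists_compl [Finite A] [Finite G] (hcop : (Nat.card A).Coprime (Nat.card G)) {p : ℕ} (hp : p.Prime)
    (hG : IsPGroup p G) {M : Subgroup G} (hM : Inv A M) (hFM : frattini G ≤ M) :
    ∃ N : Subgroup G, Inv A N ∧ frattini G ≤ N ∧ M ⊓ N = frattini G ∧ M ⊔ N = ⊤ := by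
  have := Fact.mk hp
  have hF : Inv A (frattini G) := inv_of_characteristic _
  have hcomm : commutator G ≤ frattini G := (Cfsg.Agent.S0012.result p hG).1
  have hpow : ∀ x : G, x ^ p ∈ frattini G := (Cfsg.Agent.S0012.result p hG).2
  let V := G ⧸ frattini G
  have hVc : ∀ a b : V, a * b = b * a := by
    intro a b
    induction a using QuotientGroup.induction_on with | H a =>
    induction b using QuotientGroup.induction_on with | H b =>
    rw [← QuotientGroup.mk_mul, ← QuotientGroup.mk_mul, QuotientGroup.eq]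
    apply hcomm
    have h1 : (a * b)⁻¹ * (b * a) = ⁅b⁻¹, a⁻¹⁆ := by simp [commutatorElement_def]; group
    rw [h1]
    exact Subgroup.commutator_mem_commutator (Subgroup.mem_top _) (Subgroup.mem_top _)
  have hVp : ∀ a : V, a ^ p = 1 := by
    intro a
    induction a using QuotientGroup.induction_on with | H a =>
    rw [← QuotientGroup.mk_pow, QuotientGroup.eq_one_iff]
    exact hpow a
  let inst : CommGroup V := { (inferInstance : Group V) with mul_comm := hVc }
  let act := quotAct hF
  let φ : A →* MulAut V := MulDistribMulAction.toMulAut A V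
  let U : Subgroup V := M.map (QuotientGroup.mk' (frattini G))
  obtain ⟨W, hW⟩ := Cfsg.Agent.Lib.FrattiniPGroup.exists_isCompl_of_exponent (p := p) hVp U
  have hcopV : (Nat.card A).Coprime (Nat.card V) :=
    Nat.Coprime.coprime_dvd_right (Subgroup.card_quotient_dvd_card _) hcop
  obtain ⟨W', hW'1, hW'2, hW'3⟩ := Cfsg.Agent.S0660.exists_invariant_complement φ hcopV U W
    (by
      rintro a _ ⟨x, hx, rfl⟩
      exact ⟨a • x, hM a x hx, rfl⟩)
    (hW.inf_eq_bot) (hW.sup_eq_top)
  refine ⟨W'.comap (QuotientGroup.mk' (frattini G)), ?_, ?_, ?_, ?_⟩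
  · intro a x hx
    exact hW'1 a _ hx
  · intro x hx
    have : (QuotientGroup.mk' (frattini G)) x = 1 := (QuotientGroup.eq_one_iff x).mpr hx
    change (QuotientGroup.mk' (frattini G)) x ∈ W'
    rw [this]; exact W'.one_mem
  · apply le_antisymm
    · intro x hx
      have h1 : (QuotientGroup.mk' (frattini G)) x ∈ U ⊓ W' :=
        ⟨⟨x, (Subgroup.mem_inf.mp hx).1, rfl⟩, (Subgroup.mem_inf.mp hx).2⟩
      rw [hW'2] at h1
      exact (QuotientGroup.eq_one_iff x).mp h1
    · refine le_inf hFM ?_
      intro x hx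
      have : (QuotientGroup.mk' (frattini G)) x = 1 := (QuotientGroup.eq_one_iff x).mpr hx
      change (QuotientGroup.mk' (frattini G)) x ∈ W'
      rw [this]; exact W'.one_mem
  · rw [eq_top_iff]
    intro g _
    have h1 : (QuotientGroup.mk' (frattini G)) g ∈ U ⊔ W' := by rw [hW'3]; exact Subgroup.mem_top _
    rw [Subgroup.mem_sup] at h1
    obtain ⟨_, ⟨m, hm, rfl⟩, w, hw, hmw⟩ := h1
    have h2 : (QuotientGroup.mk' (frattini G)) (m⁻¹ * g) ∈ W' := by
      rw [map_mul, map_inv, ← hmw, inv_mul_cancel_left]; exact hw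
    have h3 : g = m * (m⁻¹ * g) := by group
    rw [h3]
    exact Subgroup.mul_mem_sup hm h2

end Cfsg.Agent.H580.MaxInv
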