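import Mathlib
import Cfsg.Agent.H580.LieBad
import Cfsg.Agent.H580.LieFam
import Cfsg.Agent.Mrg.Omega.ML.LieRow.Lie
import Cfsg.Agent.FixBN.ReeSplit
import Cfsg.Agent.Mrg.ParSys.Fam.TwoFFour
import Cfsg.Agent.S0243
import Cfsg.Agent.S0245
import Cfsg.Agent.S0246
import Cfsg.Agent.S0280
import Cfsg.Agent.S1059
import Cfsg.Agent.S1067
import Cfsg.Agent.S1163
import Cfsg.Agent.S1162
import Cfsg.Agent.S1069
import Cfsg.Agent.S1073

/-!
# The simple groups of Lie type are not bad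
-/

set_option autoImplicit false
open scoped Pointwise

namespace Cfsg.Agent.H580.LieBadFam

open Cfsg CoxeterSystem Cfsg.Agent.ChevalleyStructure.CoxeterGeom Cfsg.Agent.Nodes.Reps Cfsg.Agent.Nodes.BNOf
  Cfsg.Agent.Omega.ML.Ex.Typ Cfsg.Agent.FixBN Reduce LieBad BN

universe u

variable {G : Type u} [Group G]

/-! ### arithmetic -/

/-- the 2-part -/
theorem two_part {d N a m q f : ℕ} (hq : q = 2 ^ f) (hd : Odd d) (hm : Odd m) (h : d * N = q ^ a * m) :
    2 ^ N.factorization 2 = q ^ a := by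
  have hN : N ≠ 0 := by
    rintro rfl
    rw [mul_zero] at h
    have h1 : 0 < q ^ a * m := by
      have : 0 < m := hm.pos
      have : 0 < q := by rw [hq]; positivity
      positivity
    omega
  have h1 : (d * N).factorization 2 = N.factorization 2 := by
    rw [Nat.factorization_mul hd.pos.ne' hN, Finsupp.add_apply,
      Nat.factorization_eq_zero_of_not_dvd (by rwa [← even_iff_two_dvd, Nat.not_even_iff_odd]), zero_add]
  have h2 : (q ^ a * m).factorization 2 = f * a := by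
    rw [hq, ← pow_mul, Nat.factorization_mul (by positivity) hm.pos.ne', Finsupp.add_apply,
      Nat.Prime.factorization_pow Nat.prime_two, Finsupp.single_eq_same,
      Nat.factorization_eq_zero_of_not_dvd (by rwa [← even_iff_two_dvd, Nat.not_even_iff_odd]), add_zero]
  rw [← h1, h, h2, hq, ← pow_mul]

/-- the `p`-part -/
theorem p_part {p d N a m q f : ℕ} (hp : p.Prime) (hq : q = p ^ f) (hd : ¬ p ∣ d) (hm : ¬ p ∣ m)
    (h : d * N = q ^ a * m) : p ^ N.factorization p = q ^ a := by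
  have hd0 : d ≠ 0 := fun h => hd (h ▸ dvd_zero p)
  have hm0 : m ≠ 0 := fun h => hm (h ▸ dvd_zero p)
  have hp0 := hp.pos
  have hN : N ≠ 0 := by
    rintro rfl
    rw [mul_zero] at h
    have h1 : 0 < q ^ a * m := by
      have : 0 < m := Nat.pos_of_ne_zero hm0
      have : 0 < q := by rw [hq]; positivity
      positivity
    omega
  have h1 : (d * N).factorization p = N.factorization p := by
    rw [Nat.factorization_mul hd0 hN, Finsupp.add_apply, Nat.factorization_eq_zero_of_not_dvd hd, zero_add]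
  have h2 : (q ^ a * m).factorization p = f * a := by
    rw [hq, ← pow_mul, Nat.factorization_mul (by positivity) hm0, Finsupp.add_apply,
      Nat.Prime.factorization_pow hp, Finsupp.single_eq_same,
      Nat.factorization_eq_zero_of_not_dvd hm, add_zero]
  rw [← h1, h, h2, hq, ← pow_mul]

theorem card_sylow_two [Finite G] {p : ℕ} [Fact p.Prime] {P : Cfsg.BNPair G} {U : Subgroup G} (h : Split P p U) :
    Nat.card U = p ^ (Nat.card G).factorization p := by
  obtain ⟨Q, hQ⟩ := exists_sylow_of_split h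
  rw [← hQ]
  exact Q.card_eq_multiplicity

/-- the bound -/
def Small (N : ℕ) : Prop := N < 3 * (2 ^ N.factorization 2) ^ 2

theorem small_contra {d N a m q f : ℕ} (hN : Small N) (hq : q = 2 ^ f) (hd : Odd d) (hm : Odd m)
    (h : d * N = q ^ a * m) : m < d * (3 * q ^ a) := by
  unfold Small at hN
  rw [two_part hq hd hm h] at hN
  have hq0 : 0 < q ^ a := by rw [hq]; positivity
  have h1 : d * N < d * (3 * (q ^ a) ^ 2) := Nat.mul_lt_mul_of_pos_left hN hd.pos
  rw [h] at h1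
  have h2 : q ^ a * m < q ^ a * (d * (3 * q ^ a)) := by
    calc q ^ a * m < d * (3 * (q ^ a) ^ 2) := h1
      _ = q ^ a * (d * (3 * q ^ a)) := by ring
  exact Nat.lt_of_mul_lt_mul_left h2

/-! ### root group data -/

theorem isSimple_center [IsSimpleGroup G] (hna : ¬ Group.IsSolvable G) : Subgroup.center G = ⊥ := by
  rcases (inferInstance : (Subgroup.center G).Normal).eq_bot_or_eq_top with h1 | h1
  · exact h1
  · exfalso
    apply hna
    have : IsMulCommutative G := ⟨⟨fun a b => ((Subgroup.mem_center_iff.mp (h1 ▸ Subgroup.mem_top a)) b).symm⟩⟩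
    let _ : CommGroup G := { ‹Group G› with mul_comm := this.1.1 }
    infer_instance

/-- rank one -/
theorem rgd_one [Finite G] [IsSimpleGroup G] (hbad : Bad G)
    {p : ℕ} (hp : p.Prime) {l : ℕ} {M : CoxeterMatrix (Fin l)} (hl : l = 1) (hG : HasRGDT p M G) :
    (p = 2 ∧ Small (Nat.card G)) ∨ (p ≠ 2 ∧ ∃ b, 1 + p ^ (Nat.card G).factorization p = 2 ^ b ∧
      ∀ r : ℕ, r.Prime → r ≠ 2 → r ∣ Nat.card G → 2 ^ b ≡ 1 [MOD r]) := by
  have := Fact.mk hp
  subst hl
  obtain ⟨C, h, T, n, X, hW, R, hX⟩ := hG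
  have hgen : RGD.B M.toCoxeterSystem h T X ⊔ NN M.toCoxeterSystem R.nsys = ⊤ := by
    rw [eq_top_iff, ← hX]
    exact Nodes.RGDLib.rgd_G1_le R
  have hne : (R.bnPair hgen).S.Nonempty := ⟨n 0, 0, rfl⟩
  have hsplit := SplitRGD.split_of_rgd hp R hgen (Cfsg.Agent.Tits.OfBN.normalCore_eq_bot (R.bnPair hgen) hne)
  have hS : (R.bnPair hgen).S = {n 0} := by
    change Set.range n = _
    ext x
    constructor
    · rintro ⟨k, rfl⟩
      rw [Subsingleton.elim k 0]
      rfl
    · rintro h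
      exact ⟨0, h.symm⟩
  by_cases h2 : p = 2
  · subst h2
    left
    refine ⟨rfl, ?_⟩
    have h1 := card_lt_of_one hsplit hbad hS
    rwa [card_sylow_two hsplit] at h1
  · right
    refine ⟨h2, ?_⟩
    have h1 := rank_one_odd hsplit hbad h2 hS
    rwa [card_sylow_two hsplit] at h1

/-- rank at least two -/
theorem rgd_two [Finite G] [IsSimpleGroup G] (hna : ¬ Group.IsSolvable G) (hbad : Bad G)
    {p : ℕ} (hp : p.Prime) {l : ℕ} {M : CoxeterMatrix (Fin l)} (hl : 2 ≤ l) (hG : HasRGDT p M G) :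
    l = 2 ∧ p = 2 ∧ Small (Nat.card G) := by
  have := Fact.mk hp
  obtain ⟨C, h, T, n, X, hW, R, hX⟩ := hG
  have hgen : RGD.B M.toCoxeterSystem h T X ⊔ NN M.toCoxeterSystem R.nsys = ⊤ := by
    rw [eq_top_iff, ← hX]
    exact Nodes.RGDLib.rgd_G1_le R
  have hconn := KFacts.RgdLieCharP.conn_of_simple R hX (isSimple_center hna)
  rcases Nat.lt_or_ge 2 l with h3 | h3
  · exact (rank_ge_three hbad R hgen hconn (by rw [Fintype.card_fin]; exact h3)).elim
  · obtain rfl : l = 2 := by omega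
    have hne : (R.bnPair hgen).S.Nonempty := ⟨n 0, 0, rfl⟩
    have hsplit := SplitRGD.split_of_rgd hp R hgen (Cfsg.Agent.Tits.OfBN.normalCore_eq_bot (R.bnPair hgen) hne)
    have hS : (R.bnPair hgen).S = {n 0, n 1} := by
      change Set.range n = _
      ext x
      constructor
      · rintro ⟨k, rfl⟩
        fin_cases k
        · exact Or.inl rfl
        · exact Or.inr rfl
      · rintro (h | h)
        · exact ⟨0, h.symm⟩
        · exact ⟨1, h.symm⟩
    have hst : n 0 ≠ n 1 := fun h => absurd (R.n_injective h) (by decide)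
    by_cases h2 : p = 2
    · subst h2
      refine ⟨rfl, rfl, ?_⟩
      have h1 := card_lt_of_two hsplit hbad hS hst
      rwa [card_sylow_two hsplit] at h1
    · exfalso
      refine rank_two_odd hsplit hbad h2 hS hst ?_
      refine (Lie.adj_iff R (by decide)).mp ⟨by decide, ?_⟩
      obtain ⟨a, ha, b, hb, hab⟩ := hconn {0} (Set.singleton_nonempty 0) (by
        intro h
        have : (1 : Fin 2) ∈ ({0} : Set (Fin 2)) := h ▸ Set.mem_univ 1
        exact absurd (Set.mem_singleton_iff.mp this) (by decide))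
      rw [Set.mem_singleton_iff] at ha
      have hb1 : b = 1 := by
        have : b ≠ 0 := hb
        omega
      rwa [ha, hb1] at hab

/-! ### the families -/

/-- the index of a bad group -/
theorem exists_idx [Finite G] (hbad : Bad G) : ∃ b, b ≠ 0 ∧ 2 ^ b ∣ Nat.card G ∧
    ∀ r : ℕ, r.Prime → r ≠ 2 → r ∣ Nat.card G → 2 ^ b ≡ 1 [MOD r] := by
  obtain ⟨H, hHt, ⟨b, hb⟩, hH⟩ := hbad.idx
  refine ⟨b, ?_, hb ▸ Subgroup.index_dvd_card H, ?_⟩
  · rintro rfl
    rw [pow_zero, Subgroup.index_eq_one] at hb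
    exact hHt hb
  · intro r hr hr2 hrG
    have := Fact.mk hr
    obtain ⟨R⟩ : Nonempty (Sylow r G) := inferInstance
    obtain ⟨g, hg⟩ := hH r hr hr2 hrG R
    rw [← hb]
    exact Two.index_modEq_one (g • R) H hg

theorem card_ne_168 [Finite G] (hbad : Bad G) : Nat.card G ≠ 168 := by
  intro h
  obtain ⟨b, hb0, hb, hr⟩ := exists_idx hbad
  rw [h] at hb hr
  have h3 := hr 3 Nat.prime_three (by norm_num) (by norm_num)
  have h7 := hr 7 (by norm_num) (by norm_num) (by norm_num)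
  have hb4 : b < 4 := by
    by_contra hcon
    have h1 : 2 ^ 4 ∣ 168 := (pow_dvd_pow 2 (by omega)).trans hb
    norm_num at h1
  unfold Nat.ModEq at h3 h7
  interval_cases b <;> omega

theorem exists_pow {F : Type} [Field F] [Fintype F] (p : ℕ) [CharP F p] :
    p.Prime ∧ ∃ f, f ≠ 0 ∧ Fintype.card F = p ^ f := by
  obtain ⟨n, hp, hn⟩ := FiniteField.card F p
  exact ⟨hp, n, n.ne_zero, hn⟩

theorem odd_pow_sub {q k : ℕ} (hq : Even q) (hq0 : q ≠ 0) (hk : k ≠ 0) : Odd (q ^ k - 1) := by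
  have h1 : Even (q ^ k) := hq.pow_of_ne_zero hk
  have h2 : 0 < q ^ k := by positivity
  exact Nat.Even.sub_odd h2 h1 odd_one

theorem false_psl_two' [Finite G] [IsSimpleGroup G] (hbad : Bad G) {p : ℕ}
    {F : Type} [Field F] [Fintype F] [CharP F p] (hF : 4 ≤ Fintype.card F)
    (e : G ≃* Matrix.ProjectiveSpecialLinearGroup (Fin 2) F) : False := by
  obtain ⟨hp, f, hf0, hf⟩ := exists_pow (F := F) p
  have := Fact.mk hp
  have hcard := S0243.result (F := F) rfl 2 le_rfl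
  rw [← Nat.card_congr e.toEquiv, Fin.prod_univ_two] at hcard
  simp only [Fin.val_zero, Fin.val_one, pow_zero, pow_one] at hcard
  obtain ⟨a, ha⟩ : ∃ a, Fintype.card F = a + 1 := ⟨Fintype.card F - 1, by omega⟩
  have e1 : Fintype.card F ^ 2 - 1 = a * (a + 2) := by
    rw [ha, show (a + 1) ^ 2 = a * (a + 2) + 1 by ring, Nat.add_sub_cancel]
  have e2 : Fintype.card F ^ 2 - Fintype.card F = Fintype.card F * a := by
    rw [ha, show (a + 1) ^ 2 = (a + 1) * a + (a + 1) by ring, Nat.add_sub_cancel]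
  have e3 : Fintype.card F - 1 = a := by omega
  rcases rgd_one hbad hp rfl ((typ_PSL 1).of_equiv e.symm) with ⟨rfl, hs⟩ | ⟨hp2, b, hb, hr⟩
  · have hqe : Even (Fintype.card F) := by
      rw [hf]; exact even_two.pow_of_ne_zero hf0
    have hao : Odd a := by
      rw [ha] at hqe
      rwa [Nat.even_add_one, Nat.not_even_iff_odd] at hqe
    have hg : Nat.gcd 2 (Fintype.card F - 1) = 1 := by
      rw [e3]
      exact Nat.coprime_two_left.mpr hao
    rw [hg, one_mul, e1, e2, e3] at hcard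
    have h1 := small_contra (d := a) (m := a * (a * (a + 2))) (a := 1) (q := Fintype.card F) hs hf hao
      (hao.mul (hao.mul (by
        rcases hao with ⟨k, rfl⟩
        exact ⟨k + 1, by ring⟩))) (by rw [hcard]; ring)
    rw [pow_one, ha] at h1
    have h2 : a * (a + 2) < 3 * (a + 1) := Nat.lt_of_mul_lt_mul_left h1
    nlinarith
  · have hpa : ¬ p ∣ a := by
      intro h
      have h1 : p ∣ Fintype.card F := hf ▸ dvd_pow_self p hf0
      rw [ha] at h1
      have h2 : p ∣ 1 := (Nat.dvd_add_right h).mp h1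
      exact hp.one_lt.ne' (Nat.dvd_one.mp h2)
    have hp2' : ¬ p ∣ 2 := fun h => hp2 ((Nat.prime_dvd_prime_iff_eq hp Nat.prime_two).mp h)
    have hpa2 : ¬ p ∣ a + 2 := by
      intro h
      have h1 : p ∣ Fintype.card F := hf ▸ dvd_pow_self p hf0
      rw [ha] at h1
      have h2 : p ∣ 1 := by
        have h3 : p ∣ (a + 1) + 1 := h
        exact (Nat.dvd_add_right h1).mp h3
      exact hp.one_lt.ne' (Nat.dvd_one.mp h2)
    have hpo : Odd p := hp.odd_of_ne_two hp2
    have hqo : Odd (Fintype.card F) := by rw [hf]; exact hpo.pow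
    have hae : Even a := by
      rw [ha] at hqo
      rwa [Nat.odd_add_one, Nat.not_odd_iff_even] at hqo
    have hg : Nat.gcd 2 (Fintype.card F - 1) = 2 := by
      rw [e3]
      exact Nat.gcd_eq_left (even_iff_two_dvd.mp hae)
    rw [hg, e1, e2, e3] at hcard
    have ha0 : 0 < a := by omega
    have hcard' : 2 * Nat.card G = Fintype.card F ^ 1 * (a * (a + 2)) := by
      have h1 : a * (2 * Nat.card G) = a * (Fintype.card F ^ 1 * (a * (a + 2))) := by
        rw [pow_one]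
        calc a * (2 * Nat.card G) = 2 * (a * Nat.card G) := by ring
          _ = a * (a + 2) * (Fintype.card F * a) := hcard
          _ = _ := by ring
      exact Nat.eq_of_mul_eq_mul_left ha0 h1
    have h1 := p_part hp hf hp2' (fun h => (hp.dvd_mul.mp h).elim hpa hpa2) hcard'
    rw [h1, pow_one] at hb
    -- `q = p`, a Mersenne prime
    have h2 : f = 1 := FixBN.Gates.eq_one_of_pow hpo hp.one_lt hf0 (by rw [← hf, add_comm]; exact hb)
    have hb3 : 3 ≤ b := by
      by_contra hcon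
      have h3 : 2 ^ b ≤ 2 ^ 2 := Nat.pow_le_pow_right (by norm_num) (by omega)
      omega
    obtain ⟨c, rfl⟩ : ∃ c, b = c + 3 := ⟨b - 3, by omega⟩
    have h3 : 2 ^ (c + 3) = 2 * (2 * 2 ^ (c + 1)) := by ring
    obtain ⟨k, hk⟩ : ∃ k, 2 * 2 ^ (c + 1) = k + 1 := ⟨2 * 2 ^ (c + 1) - 1, by
      have : 0 < 2 ^ (c + 1) := by positivity
      omega⟩
    have hpow : 1 ≤ 2 ^ c := Nat.one_le_two_pow
    have h4 : 2 ^ (c + 1) = 2 * 2 ^ c := by ring
    have hko : Odd k := ⟨2 ^ (c + 1) - 1, by omega⟩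
    obtain ⟨r, hrp, hr2, hrk⟩ := RankTwo.exists_odd_prime_of_odd hko (by omega)
    have hka : a = 2 * k := by omega
    have hrG : r ∣ Nat.card G := by
      have h5 : r ∣ 2 * Nat.card G := by
        rw [hcard']
        exact Dvd.dvd.mul_left (Dvd.dvd.mul_right (hka ▸ Dvd.dvd.mul_left hrk 2) _) _
      rcases hrp.dvd_mul.mp h5 with h6 | h6
      · exact absurd ((Nat.prime_dvd_prime_iff_eq hrp Nat.prime_two).mp h6) hr2
      · exact h6
    have h5 := hr r hrp hr2 hrG
    have h6 : 2 ^ (c + 3) = 2 * k + 2 := by omega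
    rw [h6] at h5
    have h7 : 2 * k + 2 ≡ 0 + 2 [MOD r] := by
      apply Nat.ModEq.add_right
      exact (Nat.modEq_zero_iff_dvd).mpr (Dvd.dvd.mul_left hrk 2)
    have h8 : 2 ≡ 1 [MOD r] := (h7.symm.trans h5)
    have h9 : r ∣ 2 - 1 := (Nat.modEq_iff_dvd' (by norm_num)).mp h8.symm
    exact hrp.one_lt.ne' (Nat.dvd_one.mp h9)

theorem false_psl [Finite G] [IsSimpleGroup G] (hna : ¬ Group.IsSolvable G) (hbad : Bad G) {p : ℕ}
    {F : Type} [Field F] [Fintype F] [CharP F p] {n : ℕ} (hn : 2 ≤ n) (hF : n = 2 → 4 ≤ Fintype.card F)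
    (e : G ≃* Matrix.ProjectiveSpecialLinearGroup (Fin n) F) : False := by
  obtain ⟨hp, f, hf0, hf⟩ := exists_pow (F := F) p
  have := Fact.mk hp
  rcases hn.eq_or_lt with rfl | h3
  · exact false_psl_two' hbad (hF rfl) e
  obtain ⟨n, rfl⟩ : ∃ k, n = k + 1 := ⟨n - 1, by omega⟩
  obtain ⟨hn2, rfl, hs⟩ := rgd_two hna hbad hp (l := n) (by omega) ((typ_PSL n).of_equiv e.symm)
  subst hn2
  have hcard := S0243.result (F := F) rfl 3 (by norm_num)
  rw [← Nat.card_congr e.toEquiv, Fin.prod_univ_three] at hcard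
  simp only [Fin.val_zero, Fin.val_one, Fin.val_two, pow_zero, pow_one] at hcard
  have hq2 : 2 ≤ Fintype.card F := Fintype.one_lt_card
  have hqe : Even (Fintype.card F) := by
    rw [hf]; exact even_two.pow_of_ne_zero hf0
  obtain ⟨a, ha⟩ : ∃ a, Fintype.card F = a + 1 := ⟨Fintype.card F - 1, by omega⟩
  have hao : Odd a := by
    rw [ha] at hqe
    rwa [Nat.even_add_one, Nat.not_even_iff_odd] at hqe
  have e1 : Fintype.card F ^ 3 - 1 = a * (a ^ 2 + 3 * a + 3) := by
    rw [ha, show (a + 1) ^ 3 = a * (a ^ 2 + 3 * a + 3) + 1 by ring, Nat.add_sub_cancel]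
  have e2 : Fintype.card F ^ 3 - Fintype.card F = Fintype.card F * (a * (a + 2)) := by
    rw [ha, show (a + 1) ^ 3 = (a + 1) * (a * (a + 2)) + (a + 1) by ring, Nat.add_sub_cancel]
  have e4 : Fintype.card F ^ 3 - Fintype.card F ^ 2 = Fintype.card F ^ 2 * a := by
    rw [ha, show (a + 1) ^ 3 = (a + 1) ^ 2 * a + (a + 1) ^ 2 by ring, Nat.add_sub_cancel]
  have e3 : Fintype.card F - 1 = a := by omega
  rw [e1, e2, e3, e4] at hcard
  have hd3 : Nat.gcd 3 a ≤ 3 := Nat.gcd_le_left _ (by norm_num)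
  have hdo : Odd (Nat.gcd 3 a) := Odd.of_dvd_nat hao (Nat.gcd_dvd_right _ _)
  have ho1 : Odd (a ^ 2 + 3 * a + 3) := by
    rcases hao with ⟨k, rfl⟩
    exact ⟨2 * k ^ 2 + 5 * k + 3, by ring⟩
  have ho2 : Odd (a + 2) := by
    rcases hao with ⟨k, rfl⟩
    exact ⟨k + 1, by ring⟩
  have h1 := small_contra (d := Nat.gcd 3 a * a) (m := a * (a * (a ^ 2 + 3 * a + 3) * (a * (a + 2)))) (a := 3)
    (q := Fintype.card F) hs hf (hdo.mul hao) (hao.mul ((hao.mul ho1).mul (hao.mul ho2)))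
    (by rw [mul_assoc, hcard]; ring)
  by_cases ha1 : a = 1
  · subst ha1
    rw [ha] at hcard
    apply card_ne_168 hbad
    have : Nat.gcd 3 1 = 1 := by decide
    rw [this] at hcard
    norm_num at hcard
    exact hcard
  · have ha3 : 3 ≤ a := by
      rcases hao with ⟨k, rfl⟩
      omega
    have h2 : (a * (a ^ 2 + 3 * a + 3) * (a * (a + 2))) < Nat.gcd 3 a * (3 * Fintype.card F ^ 3) := by
      apply Nat.lt_of_mul_lt_mul_left (a := a)
      calc a * (a * (a ^ 2 + 3 * a + 3) * (a * (a + 2))) < Nat.gcd 3 a * a * (3 * Fintype.card F ^ 3) := h1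
        _ = a * (Nat.gcd 3 a * (3 * Fintype.card F ^ 3)) := by ring
    have h3 : Nat.gcd 3 a * (3 * Fintype.card F ^ 3) ≤ 9 * (a + 1) ^ 3 := by
      rw [ha]
      calc Nat.gcd 3 a * (3 * (a + 1) ^ 3) ≤ 3 * (3 * (a + 1) ^ 3) := Nat.mul_le_mul_right _ hd3
        _ = 9 * (a + 1) ^ 3 := by ring
    have h4 := h2.trans_le h3
    obtain ⟨c, rfl⟩ : ∃ c, a = c + 3 := ⟨a - 3, by omega⟩
    have h5 : (c + 3) * ((c + 3) ^ 2 + 3 * (c + 3) + 3) * ((c + 3) * ((c + 3) + 2)) =
        9 * ((c + 3) + 1) ^ 3 + (c ^ 5 + 20 * c ^ 4 + 150 * c ^ 3 + 519 * c ^ 2 + 792 * c + 369) := by ring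
    rw [h5] at h4
    exact absurd h4 (not_lt_of_ge (Nat.le_add_right _ _))

/-- a lower bound for products -/
theorem pow_sub_one_mul_le {q k : ℕ} (hq : 4 ≤ q) (hk : 2 ≤ k) : 15 * q ^ k ≤ 16 * (q ^ k - 1) := by
  have h1 : 4 ^ 2 ≤ q ^ k := (Nat.pow_le_pow_left hq 2).trans (Nat.pow_le_pow_right (by omega) hk)
  omega

theorem ge_four {F : Type} [Field F] [Fintype F] {q f : ℕ} (hf : q = 2 ^ f) (h2 : q ≠ 2) (h1 : 1 < q) : 4 ≤ q := by
  have : 2 ≤ f := by
    by_contra hcon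
    have : f = 0 ∨ f = 1 := by omega
    rcases this with rfl | rfl <;> omega
  rw [hf]
  exact Nat.pow_le_pow_right (n := 2) (by norm_num) this

theorem false_psp [Finite G] [IsSimpleGroup G] (hna : ¬ Group.IsSolvable G) (hbad : Bad G) {p : ℕ}
    {F : Type} [Field F] [Fintype F] [CharP F p] {m : ℕ} (hm : 2 ≤ m) (hF : m = 2 → 3 ≤ Fintype.card F)
    (e : G ≃* PSp m F) : False := by
  obtain ⟨hp, f, hf0, hf⟩ := exists_pow (F := F) p
  have := Fact.mk hp
  obtain ⟨rfl, rfl, hs⟩ := rgd_two hna hbad hp hm ((typ_PSp (by omega)).of_equiv e.symm)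
  have hq2 : 2 ≤ Fintype.card F := Fintype.one_lt_card
  have hqe : Even (Fintype.card F) := by
    rw [hf]; exact even_two.pow_of_ne_zero hf0
  have h1 := S0245.result (F := F) rfl 2
  have h2 := S0246.result (F := F) rfl 2 (by omega)
  have h3 := Subgroup.card_eq_card_quotient_mul_card_subgroup (Subgroup.center (Matrix.symplecticGroup (Fin 2) F))
  have hg : Nat.gcd 2 (Fintype.card F - 1) = 1 := by
    have h4 : Odd (Fintype.card F ^ 1 - 1) := odd_pow_sub hqe (by omega) one_ne_zero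
    rw [pow_one] at h4
    exact Nat.coprime_two_left.mpr h4
  rw [h2, hg, mul_one] at h3
  have h4 : Nat.card G = Fintype.card F ^ 4 * ((Fintype.card F ^ 2 - 1) * (Fintype.card F ^ 4 - 1)) := by
    rw [Nat.card_congr e.toEquiv]
    change Nat.card (Matrix.symplecticGroup (Fin 2) F ⧸ Subgroup.center (Matrix.symplecticGroup (Fin 2) F)) = _
    rw [← h3, h1]
    simp [Finset.prod_range_succ]
  have h5 := small_contra (d := 1) (m := (Fintype.card F ^ 2 - 1) * (Fintype.card F ^ 4 - 1)) (a := 4)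
    (q := Fintype.card F) hs hf odd_one ((odd_pow_sub hqe (by omega) (by omega)).mul
      (odd_pow_sub hqe (by omega) (by omega))) (by rw [one_mul, h4])
  have hq4 : 4 ≤ Fintype.card F := ge_four (F := F) hf (by have := hF rfl; omega) (by omega)
  generalize Fintype.card F = q at *
  have i1 := pow_sub_one_mul_le hq4 (le_refl 2)
  have i2 := pow_sub_one_mul_le hq4 (show 2 ≤ 4 by norm_num)
  have i3 := Nat.mul_le_mul i1 i2
  have i4 : 16 * q ^ 4 ≤ q ^ 2 * q ^ 4 := Nat.mul_le_mul_right _ (by nlinarith)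
  nlinarith

theorem not_dvd_add_one {p q k : ℕ} (hp : p.Prime) (hpq : p ∣ q) (hk : k ≠ 0) : ¬ p ∣ q ^ k + 1 := by
  intro h
  have h2 : p ∣ 1 := (Nat.dvd_add_right (hpq.trans (dvd_pow_self q hk))).mp h
  exact hp.one_lt.ne' (Nat.dvd_one.mp h2)

theorem not_dvd_sub_one {p q k : ℕ} (hp : p.Prime) (hpq : p ∣ q) (hq : q ≠ 0) (hk : k ≠ 0) : ¬ p ∣ q ^ k - 1 := by
  intro h
  have h1 : 0 < q ^ k := by positivity
  have h2 : p ∣ 1 := by
    have h3 := Nat.dvd_sub (hpq.trans (dvd_pow_self q hk)) h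
    rwa [Nat.sub_sub_self h1] at h3
  exact hp.one_lt.ne' (Nat.dvd_one.mp h2)

theorem false_psu [Finite G] [IsSimpleGroup G] (hna : ¬ Group.IsSolvable G) (hbad : Bad G) {p : ℕ}
    {F : Type} [Field F] [Fintype F] [CharP F p] {n q : ℕ} (hF : Fintype.card F = q ^ 2) (hn : 3 ≤ n)
    (hn2 : ¬ (n = 3 ∧ q = 2)) (e : G ≃* PSU n F q) : False := by
  obtain ⟨hp, f, hf0, hf⟩ := exists_pow (F := F) p
  have := Fact.mk hp
  obtain ⟨f', hf', hqp⟩ : ∃ f', f' ≠ 0 ∧ q = p ^ f' := by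
    have h1 : q ∣ p ^ f := by rw [← hf, hF]; exact dvd_pow_self q (by norm_num)
    obtain ⟨f', -, hf'⟩ := (Nat.dvd_prime_pow hp).mp h1
    refine ⟨f', ?_, hf'⟩
    rintro rfl
    rw [hf', pow_zero, one_pow] at hF
    have := Fintype.one_lt_card (α := F)
    omega
  have hq2 : 2 ≤ q := by
    rw [hqp]
    exact hp.two_le.trans (Nat.le_self_pow hf' p)
  have hpq : p ∣ q := hqp ▸ dvd_pow_self p hf'
  have hcard := S0280.result hF n (by omega)
  rw [← Nat.card_congr e.toEquiv] at hcard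
  obtain ⟨m, hm, hG⟩ := typ_PSU (p := p) hF hn
  have hp1 : ¬ p ∣ q + 1 := by
    have := not_dvd_add_one hp hpq one_ne_zero
    rwa [pow_one] at this
  rcases Nat.lt_or_ge m 2 with hm2 | hm2
  · -- rank one
    obtain rfl : n = 3 := by omega
    obtain rfl : m = 1 := by omega
    have hd : Nat.gcd 3 (q + 1) ≤ 3 := Nat.gcd_le_left _ (by norm_num)
    have hcard3 : Nat.gcd 3 (q + 1) * (q + 1) * Nat.card G = q ^ 3 * ((q + 1) * ((q ^ 2 - 1) * (q ^ 3 + 1))) := by
      rw [mul_assoc, hcard]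
      simp [Finset.prod_range_succ, show ¬ Even 1 by decide, show Even 2 by decide, mul_assoc]
    rcases rgd_one hbad hp rfl (hG.of_equiv e.symm) with ⟨rfl, hs⟩ | ⟨hp2, b, hb, -⟩
    · have hqe : Even q := by
        rw [hqp]; exact even_two.pow_of_ne_zero hf'
      have hq1 : Odd (q + 1) := hqe.add_one
      have hdo : Odd (Nat.gcd 3 (q + 1)) := Odd.of_dvd_nat (by decide : Odd 3) (Nat.gcd_dvd_left _ _)
      have hq4 : 4 ≤ q := ge_four (F := F) hqp (fun h => hn2 ⟨rfl, h⟩) (by omega)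
      have h1 := small_contra hs hqp (hdo.mul hq1) (hq1.mul ((odd_pow_sub hqe (by omega) (by omega)).mul
        (hqe.pow_of_ne_zero (show 3 ≠ 0 by norm_num)).add_one)) hcard3
      have h2 : (q ^ 2 - 1) * (q ^ 3 + 1) < Nat.gcd 3 (q + 1) * (3 * q ^ 3) := by
        apply Nat.lt_of_mul_lt_mul_left (a := q + 1)
        calc (q + 1) * ((q ^ 2 - 1) * (q ^ 3 + 1)) < Nat.gcd 3 (q + 1) * (q + 1) * (3 * q ^ 3) := h1
          _ = (q + 1) * (Nat.gcd 3 (q + 1) * (3 * q ^ 3)) := by ring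
      have h3 : Nat.gcd 3 (q + 1) * (3 * q ^ 3) ≤ 3 * (3 * q ^ 3) := Nat.mul_le_mul_right _ hd
      have h4 : 15 ≤ q ^ 2 - 1 := by
        have : 4 ^ 2 ≤ q ^ 2 := Nat.pow_le_pow_left hq4 2
        omega
      have h5 : 15 * (q ^ 3 + 1) ≤ (q ^ 2 - 1) * (q ^ 3 + 1) := Nat.mul_le_mul_right _ h4
      omega
    · have hpo : Odd p := hp.odd_of_ne_two hp2
      have h1 := p_part hp hqp (a := 3) (fun h => (hp.dvd_mul.mp h).elim
        (fun h => hp1 (h.trans (Nat.gcd_dvd_right _ _))) hp1) (fun h => (hp.dvd_mul.mp h).elim hp1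
          (fun h => (hp.dvd_mul.mp h).elim (not_dvd_sub_one hp hpq (by omega) (by norm_num))
            (not_dvd_add_one hp hpq (by norm_num)))) hcard3
      rw [h1, hqp, ← pow_mul, add_comm] at hb
      have h2 := FixBN.Gates.eq_one_of_pow hpo hp.one_lt (by omega) hb
      omega
  · obtain ⟨rfl, rfl, hs⟩ := rgd_two hna hbad hp hm2 (hG.of_equiv e.symm)
    have hqe : Even q := by
      rw [hqp]; exact even_two.pow_of_ne_zero hf'
    have hq1 : Odd (q + 1) := hqe.add_one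
    have hdo : Odd (Nat.gcd n (q + 1)) := Odd.of_dvd_nat hq1 (Nat.gcd_dvd_right _ _)
    have o2 : Odd (q ^ 2 - 1) := odd_pow_sub hqe (by omega) (by omega)
    have o4 : Odd (q ^ 4 - 1) := odd_pow_sub hqe (by omega) (by omega)
    have o3 : Odd (q ^ 3 + 1) := (hqe.pow_of_ne_zero (show 3 ≠ 0 by norm_num)).add_one
    have o5 : Odd (q ^ 5 + 1) := (hqe.pow_of_ne_zero (show 5 ≠ 0 by norm_num)).add_one
    rcases hm with rfl | rfl
    · have hcard4 : Nat.gcd 4 (q + 1) * (q + 1) * Nat.card G =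
          q ^ 6 * ((q + 1) * ((q ^ 2 - 1) * (q ^ 3 + 1) * (q ^ 4 - 1))) := by
        rw [mul_assoc, hcard]
        simp [Finset.prod_range_succ, show ¬ Even 1 by decide, show Even 2 by decide, show ¬ Even 3 by decide, mul_assoc]
      have hg : Nat.gcd 4 (q + 1) = 1 := by
        change Nat.Coprime 4 (q + 1)
        exact Nat.Coprime.pow_left 2 (Nat.coprime_two_left.mpr hq1)
      have h1 := small_contra hs hqp (hdo.mul hq1) (hq1.mul ((o2.mul o3).mul o4)) hcard4
      change (q + 1) * ((q ^ 2 - 1) * (q ^ 3 + 1) * (q ^ 4 - 1)) < Nat.gcd 4 (q + 1) * (q + 1) * (3 * q ^ 6) at h1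
      rw [hg, one_mul] at h1
      have h2 := Nat.lt_of_mul_lt_mul_left h1
      by_cases hq : q = 2
      · subst hq; norm_num at h2
      · have hq4 : 4 ≤ q := ge_four (F := F) hqp hq (by omega)
        have i1 := pow_sub_one_mul_le hq4 (le_refl 2)
        have i2 := pow_sub_one_mul_le hq4 (show 2 ≤ 4 by norm_num)
        have i3 := Nat.mul_le_mul i1 i2
        have i4 : 64 ≤ q ^ 3 + 1 := by
          have : 4 ^ 3 ≤ q ^ 3 := Nat.pow_le_pow_left hq4 3
          omega
        have i5 := Nat.mul_le_mul i4 i3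
        have i6 : 0 < q ^ 6 := by positivity
        have i7 : q ^ 6 = q ^ 2 * q ^ 4 := by ring
        nlinarith
    · have hcard5 : Nat.gcd 5 (q + 1) * (q + 1) * Nat.card G =
          q ^ 10 * ((q + 1) * ((q ^ 2 - 1) * (q ^ 3 + 1) * (q ^ 4 - 1) * (q ^ 5 + 1))) := by
        rw [mul_assoc, hcard]
        simp [Finset.prod_range_succ, show ¬ Even 1 by decide, show Even 2 by decide, show ¬ Even 3 by decide,
          show Even 4 by decide, mul_assoc]
      have hd : Nat.gcd 5 (q + 1) ≤ 5 := Nat.gcd_le_left _ (by norm_num)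
      have h1 := small_contra hs hqp (hdo.mul hq1) (hq1.mul (((o2.mul o3).mul o4).mul o5)) hcard5
      change (q + 1) * ((q ^ 2 - 1) * (q ^ 3 + 1) * (q ^ 4 - 1) * (q ^ 5 + 1)) <
        Nat.gcd 5 (q + 1) * (q + 1) * (3 * q ^ 10) at h1
      have h2 : (q ^ 2 - 1) * (q ^ 3 + 1) * (q ^ 4 - 1) * (q ^ 5 + 1) < Nat.gcd 5 (q + 1) * (3 * q ^ 10) := by
        apply Nat.lt_of_mul_lt_mul_left (a := q + 1)
        calc (q + 1) * ((q ^ 2 - 1) * (q ^ 3 + 1) * (q ^ 4 - 1) * (q ^ 5 + 1)) <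
            Nat.gcd 5 (q + 1) * (q + 1) * (3 * q ^ 10) := h1
          _ = (q + 1) * (Nat.gcd 5 (q + 1) * (3 * q ^ 10)) := by ring
      by_cases hq : q = 2
      · subst hq; norm_num at h2
      · have hq4 : 4 ≤ q := ge_four (F := F) hqp hq (by omega)
        have h3 : Nat.gcd 5 (q + 1) * (3 * q ^ 10) ≤ 5 * (3 * q ^ 10) := Nat.mul_le_mul_right _ hd
        have i1 := pow_sub_one_mul_le hq4 (le_refl 2)
        have i2 := pow_sub_one_mul_le hq4 (show 2 ≤ 4 by norm_num)
        have i3 := Nat.mul_le_mul i1 i2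
        have i4 : q ^ 3 * q ^ 5 ≤ (q ^ 3 + 1) * (q ^ 5 + 1) := Nat.mul_le_mul (Nat.le_succ _) (Nat.le_succ _)
        have i5 := Nat.mul_le_mul i4 i3
        have i6 : 256 * q ^ 10 ≤ q ^ 14 := by
          calc 256 * q ^ 10 = 4 ^ 4 * q ^ 10 := by norm_num
            _ ≤ q ^ 4 * q ^ 10 := Nat.mul_le_mul_right _ (Nat.pow_le_pow_left hq4 4)
            _ = q ^ 14 := by ring
        have i7 : q ^ 3 * q ^ 5 * (15 * q ^ 2 * (15 * q ^ 4)) = 225 * q ^ 14 := by ring
        have i8 : 0 < q ^ 10 := by positivity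
        rw [i7] at i5
        nlinarith

theorem false_g2 [Finite G] [IsSimpleGroup G] (hna : ¬ Group.IsSolvable G) (hbad : Bad G) {p : ℕ}
    {F : Type} [Field F] [Fintype F] [CharP F p] (hF : 3 ≤ Fintype.card F)
    (e : G ≃* Lie.chevG2.group F) : False := by
  obtain ⟨hp, f, hf0, hf⟩ := exists_pow (F := F) p
  have := Fact.mk hp
  obtain ⟨-, rfl, hs⟩ := rgd_two hna hbad hp (M := CoxeterMatrix.G₂) le_rfl
    ((typ_group (by simp [Nodes.RGDChev.IsType, Nodes.RGDChev.typeList]) F p).of_equiv e.symm)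
  have hqe : Even (Fintype.card F) := by
    rw [hf]; exact even_two.pow_of_ne_zero hf0
  have h4 := S1059.result (F := F) rfl
  rw [← Nat.card_congr e.toEquiv] at h4
  have h5 := small_contra (d := 1) (m := (Fintype.card F ^ 2 - 1) * (Fintype.card F ^ 6 - 1)) (a := 6)
    (q := Fintype.card F) hs hf odd_one ((odd_pow_sub hqe (by omega) (by omega)).mul
      (odd_pow_sub hqe (by omega) (by omega))) (by rw [one_mul, h4, mul_assoc])
  have hq4 : 4 ≤ Fintype.card F := ge_four (F := F) hf (by omega) (by omega)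
  generalize Fintype.card F = q at *
  have i1 := pow_sub_one_mul_le hq4 (le_refl 2)
  have i2 := pow_sub_one_mul_le hq4 (show 2 ≤ 6 by norm_num)
  have i3 := Nat.mul_le_mul i1 i2
  have i4 : 16 * q ^ 6 ≤ q ^ 2 * q ^ 6 := Nat.mul_le_mul_right _ (by nlinarith)
  nlinarith

theorem false_tD4 [Finite G] [IsSimpleGroup G] (hna : ¬ Group.IsSolvable G) (hbad : Bad G) {p : ℕ}
    {F : Type} [Field F] [Fintype F] [CharP F p] {q : ℕ} (hq : IsPrimePow q) (hF : Fintype.card F = q ^ 3)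
    (e : G ≃* Lie.twistedD4 F q) : False := by
  obtain ⟨hp, f, hf0, hf⟩ := exists_pow (F := F) p
  have := Fact.mk hp
  obtain ⟨f', hf', hqp⟩ : ∃ f', f' ≠ 0 ∧ q = p ^ f' := by
    have h1 : q ∣ p ^ f := by rw [← hf, hF]; exact dvd_pow_self q (by norm_num)
    obtain ⟨f', -, hf'⟩ := (Nat.dvd_prime_pow hp).mp h1
    refine ⟨f', ?_, hf'⟩
    rintro rfl
    rw [hf', pow_zero, one_pow] at hF
    have := Fintype.one_lt_card (α := F)
    omega
  obtain ⟨-, rfl, hs⟩ := rgd_two hna hbad hp (M := CoxeterMatrix.G₂) le_rfl ((typ_twD4 hq hF p).of_equiv e.symm)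
  have hqe : Even q := by
    rw [hqp]; exact even_two.pow_of_ne_zero hf'
  have hq0 : q ≠ 0 := hq.pos.ne'
  have hq2 : 2 ≤ q := hq.two_le
  have h4 := S1067.result hq hF
  rw [← Nat.card_congr e.toEquiv] at h4
  have o8 : Odd (q ^ 8 + q ^ 4 + 1) :=
    ((hqe.pow_of_ne_zero (show 8 ≠ 0 by norm_num)).add (hqe.pow_of_ne_zero (show 4 ≠ 0 by norm_num))).add_one
  have h5 := small_contra (d := 1) (m := (q ^ 2 - 1) * (q ^ 6 - 1) * (q ^ 8 + q ^ 4 + 1)) (a := 12)
    hs hqp odd_one (((odd_pow_sub hqe hq0 (by omega)).mul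
      (odd_pow_sub hqe hq0 (by omega))).mul o8) (by rw [one_mul, h4]; ring)
  by_cases hq2 : q = 2
  · subst hq2; norm_num at h5
  · have hq4 : 4 ≤ q := ge_four (F := F) hqp hq2 (by omega)
    have i1 := pow_sub_one_mul_le hq4 (le_refl 2)
    have i2 := pow_sub_one_mul_le hq4 (show 2 ≤ 6 by norm_num)
    have i3 := Nat.mul_le_mul i1 i2
    have i4 : q ^ 8 ≤ q ^ 8 + q ^ 4 + 1 := by omega
    have i5 := Nat.mul_le_mul i3 i4
    have i6 : 256 * q ^ 12 ≤ q ^ 16 := by
      calc 256 * q ^ 12 = 4 ^ 4 * q ^ 12 := by norm_num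
        _ ≤ q ^ 4 * q ^ 12 := Nat.mul_le_mul_right _ (Nat.pow_le_pow_left hq4 4)
        _ = q ^ 16 := by ring
    have i7 : 15 * q ^ 2 * (15 * q ^ 6) * q ^ 8 = 225 * q ^ 16 := by ring
    have i8 : 0 < q ^ 12 := by positivity
    rw [i7] at i5
    nlinarith

theorem false_2F4 [Finite G] [IsSimpleGroup G] (hbad : Bad G) (hG : Lie.Iso2F4 G) : False := by
  obtain ⟨K, _, _, m, hm, hK, ⟨e⟩⟩ := hG
  obtain ⟨Q, UE, s, t, hQ, -⟩ := Cfsg.Agent.ParSys.Fam.TwoFFour.exists_all hm hK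
  have : Fact (Nat.Prime 2) := ⟨Nat.prime_two⟩
  have h := FixBN.Transport.split e.symm Q hQ.split
  have hs : s ∈ Q.S := by rw [hQ.S]; exact Or.inl rfl
  have hs' : e.symm s ∈ (Transport.mapBN e.symm Q).S := ⟨s, hs, rfl⟩
  have h1 := nilp_B h hbad hs'
  have h2 : Group.IsNilpotent Q.B :=
    Two.nilp_congr (Q.B.equivMapOfInjective e.symm.toMonoidHom e.symm.injective) h1
  have : Finite ↥(Lie.twistedF4 K (2 ^ m)) := Finite.of_equiv G e.toEquiv
  have h3 := torus_trivial hQ.split h2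
  obtain ⟨x, hx, hxu⟩ := hQ.fpfs
  have hx1 := h3 x hx.1 hx.2
  subst hx1
  obtain ⟨V, hV⟩ := hQ.split.node s hs
  obtain ⟨u, hu, huV⟩ := hV.ne
  apply huV
  apply hV.stab u hu
  apply hxu u hu
  simp

theorem false_sz [Finite G] [IsSimpleGroup G] (hbad : Bad G) (h : Lie.IsoSuzuki G) : False := by
  obtain ⟨K, i1, i2, m, hm, hK, ⟨e⟩⟩ := h
  have H := LieRecognition.SzMatrix.good hK
  have hs : IsSimpleGroup ↥(Cfsg.Lie.Sz K (2 ^ (m + 1))) := Cfsg.Agent.S1162.result hm hK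
  have h1 := Omega.ML.LieRow.SzSplit.split hm hK H hs
  have hsplit := Transport.split e.symm _ h1
  have : Fact (Nat.Prime 2) := ⟨Nat.prime_two⟩
  have hcardU : Nat.card H.unip = (2 ^ (2 * m + 1)) ^ 2 := by
    rw [H.card_unip, Nat.card_eq_fintype_card, hK]
  have h2 := card_lt_of_one hsplit hbad (s := e.symm H.w) (by
    change e.symm '' {H.w} = _
    rw [Set.image_singleton])
  rw [Subgroup.card_map_of_injective e.symm.injective, hcardU, Nat.card_congr e.toEquiv,
    (Cfsg.Agent.S1163.result hm hK).1] at h2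
  have h8 : 8 ≤ 2 ^ (2 * m + 1) :=
    calc 8 = 2 ^ 3 := rfl
      _ ≤ 2 ^ (2 * m + 1) := Nat.pow_le_pow_right (by norm_num) (by omega)
  generalize 2 ^ (2 * m + 1) = q at h2 h8
  have h3 : 7 ≤ q - 1 := by omega
  have h4 : q ^ 2 * 7 * (q ^ 2 + 1) ≤ q ^ 2 * (q - 1) * (q ^ 2 + 1) :=
    Nat.mul_le_mul_right _ (Nat.mul_le_mul_left _ h3)
  have h5 : 0 < q ^ 2 := by positivity
  nlinarith

theorem false_ree [Finite G] [IsSimpleGroup G] (hbad : Bad G) (h : Lie.IsoRee G) : False := by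
  obtain ⟨K, i1, i2, m, hm, hK, ⟨e⟩⟩ := h
  obtain ⟨U, h, n, D⟩ := Cfsg.Agent.ChevalleyStructure.Ree.Data.exists_data hK
  have hs : IsSimpleGroup ↥(Cfsg.Lie.twistedG2 K (3 ^ m)) := (Cfsg.Agent.S1073.result hm hK).1
  have hfin : Finite ↥(Cfsg.Lie.twistedG2 K (3 ^ m)) := Finite.of_equiv G e.toEquiv
  have h1 := ReeSplit.split hK D
  have hsplit := Transport.split e.symm _ h1
  have : Fact (Nat.Prime 3) := ⟨Nat.prime_three⟩
  have hcardU : Nat.card (Cfsg.Agent.LieRecognition.ReeSylowThree.uSub D) = 3 ^ (3 * (2 * m + 1)) := by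
    rw [Cfsg.Agent.LieRecognition.ReeSylowThree.card_uSub, hK, ← pow_mul, mul_comm]
  obtain ⟨b, hb, -⟩ := rank_one_odd hsplit hbad (by norm_num) (s := e.symm n) (by
    change e.symm '' {n} = _
    rw [Set.image_singleton])
  rw [Subgroup.card_map_of_injective e.symm.injective, hcardU, add_comm] at hb
  have h2 := FixBN.Gates.eq_one_of_pow (by decide) (by norm_num) (by omega) hb
  omega

/-- **The simple groups of Lie type are not bad.** -/
theorem false_of_lie [Finite G] [IsSimpleGroup G] (hna : ¬ Group.IsSolvable G) (hbad : Bad G) {p : ℕ}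
    (hG : IsLieTypeChar p G) : False := by
  have big : ∀ {p : ℕ}, p.Prime → ∀ {l : ℕ} {M : CoxeterMatrix (Fin l)}, 3 ≤ l → HasRGDT p M G → False := by
    intro p hp l M hl h
    have := (rgd_two hna hbad hp (by omega) h).1
    omega
  rcases hG with h | h | h | h | h | h | h | h | h | h | h
  · obtain ⟨F, _, _, _, n, hn, hn2, ⟨e⟩⟩ := h
    exact false_psl hna hbad (p := p) hn hn2 e
  · obtain ⟨F, _, _, _, m, hm, hm2, ⟨e⟩⟩ := h
    exact false_psp hna hbad (p := p) hm hm2 e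
  · obtain ⟨F, _, _, _, n, q, hF, hn, hn2, ⟨e⟩⟩ := h
    exact false_psu hna hbad (p := p) hF hn hn2 e
  · obtain ⟨F, _, _, _, m, hm, hodd, ⟨e⟩⟩ := h
    have : Fact p.Prime := Nodes.RGDClass.fact_prime (F := F)
    have h2 : (2 : F) ≠ 0 := by
      intro h2
      have : CharP F 2 := CharTwo.of_one_ne_zero_of_two_eq_zero one_ne_zero h2
      obtain ⟨k, -, hk⟩ := FiniteField.card F 2
      rw [hk] at hodd
      exact absurd hodd (by
        rw [Nat.not_odd_iff_even]
        exact (even_two).pow_of_ne_zero k.ne_zero)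
    exact big this.out hm ((LieFam.typ_PO_odd h2 (by omega)).of_equiv e.symm)
  · obtain ⟨F, _, _, _, m, hm, ⟨e⟩⟩ := h
    have : Fact p.Prime := Nodes.RGDClass.fact_prime (F := F)
    obtain ⟨n, rfl⟩ : ∃ n, m = n + 3 := ⟨m - 3, by omega⟩
    exact big this.out (by omega) ((typ_PO_plus n).of_equiv e.symm)
  · obtain ⟨F, _, _, _, m, a, b, hm, hab, ⟨e⟩⟩ := h
    have : Fact p.Prime := Nodes.RGDClass.fact_prime (F := F)
    exact big this.out (by omega) ((typ_PO_minus hab (by omega)).of_equiv e.symm)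
  · obtain ⟨F, _, _, _, h'⟩ := h
    have : Fact p.Prime := Nodes.RGDClass.fact_prime (F := F)
    have h0 : IsExceptionalChevChar p G := ⟨F, _, _, ‹_›, h'⟩
    rcases h' with ⟨hF, ⟨e⟩⟩ | ⟨⟨e⟩⟩ | ⟨⟨e⟩⟩ | ⟨⟨e⟩⟩ | ⟨⟨e⟩⟩
    · exact false_g2 hna hbad (p := p) hF e
    · exact big this.out (by omega) ((typ_group (M := CoxeterMatrix.F₄)
        (by simp [Nodes.RGDChev.IsType, Nodes.RGDChev.typeList]) F p).of_equiv e.symm)
    · exact big this.out (by omega) ((typ_group (M := CoxeterMatrix.E₆)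
        (by simp [Nodes.RGDChev.IsType, Nodes.RGDChev.typeList]) F p).of_equiv e.symm)
    · exact big this.out (by omega) ((typ_group (M := CoxeterMatrix.E₇)
        (by simp [Nodes.RGDChev.IsType, Nodes.RGDChev.typeList]) F p).of_equiv e.symm)
    · exact big this.out (by omega) ((typ_group (M := CoxeterMatrix.E₈)
        (by simp [Nodes.RGDChev.IsType, Nodes.RGDChev.typeList]) F p).of_equiv e.symm)
  · obtain ⟨K, _, _, _, q, hq, ⟨hK, ⟨e⟩⟩ | ⟨hK, ⟨e⟩⟩⟩ := h
    · have : Fact p.Prime := Nodes.RGDClass.fact_prime (F := K)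
      exact big this.out (by omega) ((typ_twE6 hq hK p).of_equiv e.symm)
    · exact false_tD4 hna hbad (p := p) hq hK e
  · exact false_sz hbad h.2
  · exact false_2F4 hbad h.2
  · exact false_ree hbad h.2

end Cfsg.Agent.H580.LieBadFam
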