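import Mathlib
import Cfsg.Agent.H580.ReduceB

/-!
# Reduction of the two-class theorem to simple groups: characteristically simple groups, and the induction
-/

set_option autoImplicit false
open scoped Pointwise

namespace Cfsg.Agent.H580.Reduce

open MaxInv Two

universe u v

variable {A : Type v} {G : Type u} [Group A] [Group G] [MulDistribMulAction A G]

/-- the projection to a factor -/
theorem exists_proj [Finite G] {T : Subgroup G} (h : Base A (⊤ : Subgroup G)) (hT : MinN ⊤ T) :
    ∃ π : G →* G, (∀ x, π x ∈ T) ∧ (∀ x, (π x)⁻¹ * x ∈ Subgroup.centralizer (T : Set G)) ∧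
      ∀ t ∈ T, ∀ c ∈ Subgroup.centralizer (T : Set G), π (t * c) = t := by
  have hex : ∀ x : G, ∃ t, t ∈ T ∧ t⁻¹ * x ∈ Subgroup.centralizer (T : Set G) := by
    intro x
    obtain ⟨t, ht, c, hc, rfl⟩ := hT.decomp h (Subgroup.mem_top x)
    exact ⟨t, ht, by rw [inv_mul_cancel_left]; exact hc.2⟩
  choose f hf1 hf2 using hex
  have huniq : ∀ t ∈ T, ∀ c ∈ Subgroup.centralizer (T : Set G), f (t * c) = t := by
    intro t ht c hc
    have h1 : t⁻¹ * f (t * c) ∈ T ⊓ Subgroup.centralizer (T : Set G) := by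
      refine ⟨T.mul_mem (T.inv_mem ht) (hf1 _), ?_⟩
      have h2 := Subgroup.mul_mem _ hc (Subgroup.inv_mem _ (hf2 (t * c)))
      have h3 : c * ((f (t * c))⁻¹ * (t * c))⁻¹ = t⁻¹ * f (t * c) := by
        group
      rwa [h3] at h2
    rw [hT.inf_centralizer h, Subgroup.mem_bot, inv_mul_eq_one] at h1
    exact h1.symm
  refine ⟨MonoidHom.mk' f ?_, hf1, hf2, huniq⟩
  intro x y
  have h1 := Subgroup.mem_centralizer_iff.mp (hf2 x) _ (hf1 y)
  have h2 : x * y = (f x * f y) * ((f x)⁻¹ * x * ((f y)⁻¹ * y)) := by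
    calc x * y = f x * (((f x)⁻¹ * x) * f y) * ((f y)⁻¹ * y) := by group
      _ = f x * (f y * ((f x)⁻¹ * x)) * ((f y)⁻¹ * y) := by rw [h1]
      _ = (f x * f y) * ((f x)⁻¹ * x * ((f y)⁻¹ * y)) := by group
  conv_lhs => rw [h2]
  exact huniq _ (mul_mem (hf1 x) (hf1 y)) _ (Subgroup.mul_mem _ (hf2 x) (hf2 y))

/-- the stabilizer of a factor -/
def stabT (A : Type v) {G : Type u} [Group A] [Group G] [MulDistribMulAction A G] (T : Subgroup G) : Subgroup A :=
  MulAction.stabilizer A T

theorem smul_mem_of_stab {T : Subgroup G} (a : stabT A T) {x : G} (hx : x ∈ T) : (a : A) • x ∈ T := by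
  have h1 : (a : A) • T = T := a.2
  have h2 := Subgroup.smul_mem_pointwise_smul x (a : A) T hx
  rwa [h1] at h2

theorem inv_stab (T : Subgroup G) : Inv (stabT A T) T := fun a _ hx => smul_mem_of_stab a hx

/-- the action on a factor -/
@[reducible] def actT (T : Subgroup G) : MulDistribMulAction (stabT A T) T := subAct (inv_stab T)

theorem subgroupOf_conj {T M X : Subgroup G} {c t c' : G} (hc : c = t * c') (ht : t ∈ T)
    (hc' : c' ∈ Subgroup.centralizer (T : Set G)) (hX : X = MulAut.conj c • M) :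
    X.subgroupOf T = MulAut.conj (⟨t, ht⟩ : T) • M.subgroupOf T := by
  ext y
  rw [Subgroup.mem_subgroupOf, Subgroup.mem_pointwise_smul_iff_inv_smul_mem, Subgroup.mem_subgroupOf, hX,
    Subgroup.mem_pointwise_smul_iff_inv_smul_mem]
  have e1 : (MulAut.conj c)⁻¹ • (y : G) = t⁻¹ * (y : G) * t := by
    rw [← map_inv, MulAut.smul_def, MulAut.conj_apply, inv_inv, hc]
    have h1 : t⁻¹ * (y : G) * t ∈ T := mul_mem (mul_mem (inv_mem ht) y.2) ht
    have h2 := Subgroup.mem_centralizer_iff.mp hc' _ h1
    calc (t * c')⁻¹ * (y : G) * (t * c') = c'⁻¹ * ((t⁻¹ * (y : G) * t) * c') := by group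
      _ = c'⁻¹ * (c' * (t⁻¹ * (y : G) * t)) := by rw [h2]
      _ = t⁻¹ * (y : G) * t := by group
  have e2 : (((MulAut.conj (⟨t, ht⟩ : T))⁻¹ • y : T) : G) = t⁻¹ * (y : G) * t := by
    rw [← map_inv, MulAut.smul_def, MulAut.conj_apply, inv_inv]
    rfl
  rw [e1, e2]

/-- **The factors of a characteristically simple group inherit the two-class property.** -/
theorem twoCl_factor [Finite G] {T : Subgroup G} (h : Base A (⊤ : Subgroup G)) (hT : MinN ⊤ T) (hcl : TwoCl A G) :
    @TwoCl (stabT A T) T _ _ (actT T) := by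
  let _ := actT (A := A) T
  have hTn : T.Normal := Subgroup.normalizer_eq_top_iff.mp (top_le_iff.mp hT.norm)
  obtain ⟨π, hπT, hπC, hπ⟩ := exists_proj h hT
  have hπt : ∀ t ∈ T, π t = t := fun t ht => by
    have := hπ t ht 1 (one_mem _)
    rwa [mul_one] at this
  have hπc : ∀ c ∈ Subgroup.centralizer (T : Set G), π c = 1 := fun c hc => by
    have := hπ 1 (one_mem _) c hc
    rwa [one_mul] at this
  obtain ⟨M₁, M₂, hall⟩ := hcl
  refine ⟨M₁.subgroupOf T, M₂.subgroupOf T, ?_⟩
  intro X₁ hX₁ hn₁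
  -- the subgroup `X`
  set X₁' : Subgroup G := X₁.map T.subtype with hX₁'
  have hX₁T : X₁' ≤ T := Subgroup.map_subtype_le _
  let X : Subgroup G :=
    { carrier := {g | ∀ a : A, π (a • g) ∈ X₁'}
      one_mem' := fun a => by rw [smul_one, map_one]; exact one_mem _
      mul_mem' := fun {x y} hx hy a => by rw [smul_mul', map_mul]; exact mul_mem (hx a) (hy a)
      inv_mem' := fun {x} hx a => by rw [smul_inv', map_inv]; exact inv_mem (hx a) }
  have hXinv : Inv A X := fun a x hx b => by
    rw [smul_smul]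
    exact hx (b * a)
  have hX₁X : X₁' ≤ X := by
    intro x hx a
    by_cases ha : a ∈ stabT A T
    · rw [hπt _ (smul_mem_of_stab ⟨a, ha⟩ (hX₁T hx))]
      obtain ⟨y, hy, rfl⟩ := hx
      exact ⟨(⟨a, ha⟩ : stabT A T) • y, hX₁.2.1 ⟨a, ha⟩ y hy, rfl⟩
    · rw [hπc]
      · exact one_mem _
      · have h1 : MinN ⊤ (T.map (MulDistribMulAction.toMonoidHom G a)) := hT.smul h a
        refine hT.comm h1 (fun h2 => ha ?_) ⟨x, hX₁T hx, rfl⟩
        exact h2.symm
  have hXT : X ⊓ T ≤ X₁' := by
    rintro x ⟨hx, hxT⟩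
    have h1 := hx 1
    rwa [one_smul, hπt x hxT] at h1
  have hXT' : X.subgroupOf T = X₁ := by
    ext y
    rw [Subgroup.mem_subgroupOf]
    constructor
    · intro hy
      obtain ⟨z, hz, hzy⟩ := hXT ⟨hy, y.2⟩
      rwa [← Subtype.ext hzy]
    · intro hy
      exact hX₁X ⟨y, hy, rfl⟩
  have hXne : X ≠ ⊤ := by
    intro h1
    apply hX₁.1
    rw [← hXT', h1]
    exact Subgroup.subgroupOf_eq_top.mpr le_top
  have hX₁bot : X₁' ≠ ⊥ := by
    intro h1
    apply hn₁
    have h2 : X₁ = ⊥ := (Subgroup.map_eq_bot_iff_of_injective _ T.subtype_injective).mp h1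
    rw [h2]
    infer_instance
  have hXmax : IsMaxInv A X := by
    refine ⟨hXne, hXinv, ?_⟩
    intro L hXL hL
    -- the projection of `L`
    set L₁ : Subgroup T := (L.map π).subgroupOf T with hL₁
    have hL₁inv : Inv (stabT A T) L₁ := by
      intro a y hy
      rw [hL₁, Subgroup.mem_subgroupOf] at hy ⊢
      obtain ⟨l, hl, hly⟩ := hy
      refine ⟨(a : A) • l, hL a l hl, ?_⟩
      have h1 : (a : A) • l = ((a : A) • π l) * ((a : A) • ((π l)⁻¹ * l)) := by
        rw [← smul_mul', mul_inv_cancel_left]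
      rw [h1, hπ]
      · rw [hly]
        rfl
      · exact smul_mem_of_stab a (hπT l)
      · rw [Subgroup.mem_centralizer_iff]
        intro t ht
        have h2 := Subgroup.mem_centralizer_iff.mp (hπC l) _ (smul_mem_of_stab a⁻¹ ht)
        have h3 := congrArg (fun z => (a : A) • z) h2
        simp only [smul_mul'] at h3
        have h4 : (a : A) • ((a⁻¹ : stabT A T) : A) • t = t := by
          change (a : A) • ((a : A)⁻¹ • t) = t
          rw [smul_inv_smul]
        rw [smul_mul'] at *
        rw [h4] at h3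
        exact h3
    have hX₁L₁ : X₁ ≤ L₁ := by
      intro y hy
      rw [hL₁, Subgroup.mem_subgroupOf]
      exact ⟨y, hXL.le (hX₁X ⟨y, hy, rfl⟩), hπt y y.2⟩
    rcases hX₁L₁.eq_or_lt with h1 | h1
    · exfalso
      apply hXL.not_ge
      intro l hl a
      have h2 : (⟨π (a • l), hπT _⟩ : T) ∈ L₁ := by
        rw [hL₁, Subgroup.mem_subgroupOf]
        exact ⟨a • l, hL a l hl, rfl⟩
      rw [← h1] at h2
      exact ⟨_, h2, rfl⟩
    · have h2 := hX₁.2.2 L₁ h1 hL₁inv
      -- `T` normalizes `L ⊓ T`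
      have h3 : (⊤ : Subgroup G) ≤ Subgroup.normalizer ((L ⊓ T : Subgroup G) : Set G) := by
        intro g _
        obtain ⟨t, ht, c, hc, rfl⟩ := hT.decomp h (Subgroup.mem_top g)
        have ht' : (⟨t, ht⟩ : T) ∈ L₁ := h2 ▸ Subgroup.mem_top _
        rw [hL₁, Subgroup.mem_subgroupOf] at ht'
        obtain ⟨l, hl, hlt⟩ := ht'
        have hlt' : π l = t := hlt
        apply mem_normalizer_of_conj_mem
        rintro x ⟨hxL, hxT⟩
        have e1 : t * c * x * (t * c)⁻¹ = l * x * l⁻¹ := by
          have e2 := Subgroup.mem_centralizer_iff.mp hc.2 x hxT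
          have e3 := Subgroup.mem_centralizer_iff.mp (hπC l) x hxT
          calc t * c * x * (t * c)⁻¹ = t * (c * x) * c⁻¹ * t⁻¹ := by group
            _ = t * (x * c) * c⁻¹ * t⁻¹ := by rw [e2]
            _ = t * x * t⁻¹ := by group
            _ = π l * x * (π l)⁻¹ := by rw [hlt']
            _ = π l * (x * ((π l)⁻¹ * l)) * l⁻¹ := by group
            _ = π l * (((π l)⁻¹ * l) * x) * l⁻¹ := by rw [e3]
            _ = l * x * l⁻¹ := by group
        rw [e1]
        exact ⟨L.mul_mem (L.mul_mem hl hxL) (L.inv_mem hl), hTn.conj_mem x hxT l⟩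
      have h4 : T ≤ L := by
        rcases hT.min _ inf_le_right h3 with h4 | h4
        · exfalso
          apply hX₁bot
          rw [eq_bot_iff, ← h4]
          exact le_inf (hX₁X.trans hXL.le) hX₁T
        · rw [← h4]
          exact inf_le_left
      have h5 : sSup {S : Subgroup G | ∃ a : A, S = T.map (MulDistribMulAction.toMonoidHom G a)} = ⊤ := by
        refine h.sSup_eq (fun _ _ => le_top) ⟨_, ⟨1, rfl⟩, (hT.smul h 1).ne⟩ ?_ ?_
        · rintro g _ ⟨a, rfl⟩
          refine ⟨a, ?_⟩
          have h6 := (hT.smul h a).norm (Subgroup.mem_top g)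
          exact Subgroup.mem_normalizer_iff_map_conj_eq.mp h6
        · rintro b _ ⟨a, rfl⟩
          refine ⟨b * a, ?_⟩
          rw [Subgroup.map_map]
          congr 1
          ext x
          exact (mul_smul b a x).symm
      rw [eq_top_iff, ← h5]
      refine sSup_le ?_
      rintro _ ⟨a, rfl⟩
      rintro _ ⟨x, hx, rfl⟩
      exact hL a x (h4 hx)
  have hXn : ¬ Group.IsNilpotent X := by
    intro h1
    apply hn₁
    have h2 : Group.IsNilpotent X₁' := nilp_of_le hX₁X h1
    exact nilp_congr (X₁.equivMapOfInjective T.subtype T.subtype_injective) h2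
  obtain ⟨c, hc⟩ := hall X hXmax hXn
  have hc1 : c = π c * ((π c)⁻¹ * c) := (mul_inv_cancel_left _ _).symm
  refine ⟨⟨π c, hπT c⟩, ?_⟩
  rcases hc with hc | hc
  · left
    rw [← hXT']
    exact subgroupOf_conj hc1 (hπT c) (hπC c) hc
  · right
    rw [← hXT']
    exact subgroupOf_conj hc1 (hπT c) (hπC c) hc

/-! ### The induction -/

theorem isSolvable_of_quotient {N : Subgroup G} [N.Normal] (h1 : Group.IsSolvable N) (h2 : Group.IsSolvable (G ⧸ N)) :
    Group.IsSolvable G := by
  exact Group.isSolvable_of_ker_le_range N.subtype (QuotientGroup.mk' N) (by simp)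

/-- the action on a quotient -/
@[reducible] def actQ {N : Subgroup G} [N.Normal] (hN : Inv A N) : MulDistribMulAction A (G ⧸ N) where
  smul a := QuotientGroup.map N N (MulDistribMulAction.toMonoidHom G a) (fun x hx => hN a x hx)
  one_smul x := by
    induction x using QuotientGroup.induction_on with
    | H g => exact congrArg _ (one_smul A g)
  mul_smul a b x := by
    induction x using QuotientGroup.induction_on with
    | H g => exact congrArg _ (mul_smul a b g)
  smul_mul a x y := map_mul _ _ _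
  smul_one a := map_one _

theorem twoCl_quotient {N : Subgroup G} [hNn : N.Normal] (hN : Inv A N) (hcl : TwoCl A G) :
    @TwoCl A (G ⧸ N) _ _ (actQ hN) := by
  let _ := actQ (A := A) hN
  have hsm : ∀ (a : A) (g : G), a • ((g : G) : G ⧸ N) = ((a • g : G) : G ⧸ N) := fun a g => rfl
  obtain ⟨M₁, M₂, hall⟩ := hcl
  refine ⟨M₁.map (QuotientGroup.mk' N), M₂.map (QuotientGroup.mk' N), ?_⟩
  intro M hM hn
  set M' := M.comap (QuotientGroup.mk' N) with hM'
  have hmap : M'.map (QuotientGroup.mk' N) = M :=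
    Subgroup.map_comap_eq_self_of_surjective (QuotientGroup.mk'_surjective N) M
  have hNM' : N ≤ M' := by
    intro x hx
    rw [hM', Subgroup.mem_comap]
    have : QuotientGroup.mk' N x = 1 := (QuotientGroup.eq_one_iff x).mpr hx
    rw [this]
    exact one_mem _
  have hmax : IsMaxInv A M' := by
    refine ⟨?_, ?_, ?_⟩
    · intro h1
      apply hM.1
      rw [← hmap, h1, Subgroup.map_top_of_surjective _ (QuotientGroup.mk'_surjective N)]
    · intro a x hx
      exact hM.2.1 a _ hx
    · intro L hL hLA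
      have h1 : M < L.map (QuotientGroup.mk' N) := by
        rw [← hmap]
        refine lt_of_le_of_ne (Subgroup.map_mono hL.le) fun h2 => ?_
        apply hL.ne
        apply le_antisymm hL.le
        have h3 : L ≤ (L.map (QuotientGroup.mk' N)).comap (QuotientGroup.mk' N) := Subgroup.le_comap_map _ _
        rw [← h2, hmap] at h3
        exact h3
      have h2 := hM.2.2 _ h1 (by
        rintro a _ ⟨x, hx, rfl⟩
        exact ⟨a • x, hLA a x hx, rfl⟩)
      rw [eq_top_iff]
      intro x _
      have h3 : QuotientGroup.mk' N x ∈ L.map (QuotientGroup.mk' N) := h2 ▸ Subgroup.mem_top _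
      obtain ⟨y, hy, hyx⟩ := h3
      have h4 : y⁻¹ * x ∈ N := QuotientGroup.eq.mp hyx
      have h5 := mul_mem hy (hL.le (hNM' h4))
      rwa [mul_inv_cancel_left] at h5
  have hn' : ¬ Group.IsNilpotent M' := by
    intro h1
    apply hn
    rw [← hmap]
    have h2 : Function.Surjective ((QuotientGroup.mk' N).subgroupMap M') := (QuotientGroup.mk' N).subgroupMap_surjective M'
    exact Group.nilpotent_of_surjective _ h2
  obtain ⟨c, hc⟩ := hall M' hmax hn'
  have hconj : ∀ K : Subgroup G, M' = MulAut.conj c • K →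
      M = MulAut.conj ((c : G) : G ⧸ N) • K.map (QuotientGroup.mk' N) := by
    intro K hK
    rw [← hmap, hK]
    change (K.map (MulAut.conj c).toMonoidHom).map (QuotientGroup.mk' N) =
      (K.map (QuotientGroup.mk' N)).map (MulAut.conj ((c : G) : G ⧸ N)).toMonoidHom
    rw [Subgroup.map_map, Subgroup.map_map]
    rfl
  exact ⟨(c : G), hc.imp (hconj _) (hconj _)⟩

/-- **The reduction.** -/
theorem isSolvable_of_twoCl [Finite A] (hsol : Group.IsSolvable A) (hodd : Odd (Nat.card A))
    (S1 : ∀ (B : Type v) (T : Type u) [Group B] [Group T] [MulDistribMulAction B T], Finite B → Finite T →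
      (Nat.card B).Coprime (Nat.card T) → Group.IsSolvable B → Odd (Nat.card B) → IsSimpleGroup T →
      ¬ Group.IsSolvable T → TwoCl B T → False)
    (S2 : ∀ (T : Type u) [Group T], Finite T → IsSimpleGroup T → ¬ Group.IsSolvable T → Bad T → False) :
    ∀ (n : ℕ) (G : Type u) [Group G] [MulDistribMulAction A G], Finite G → Nat.card G = n →
      (Nat.card A).Coprime (Nat.card G) → TwoCl A G → Group.IsSolvable G := by
  intro n
  induction n using Nat.strong_induction_on with
  | _ n ih =>
  intro G _ _ _ hn hcop hcl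
  by_contra hns
  -- a minimal normal invariant subgroup
  let S : Set (Subgroup G) := {K | K.Normal ∧ Inv A K ∧ K ≠ ⊥}
  have hfin : S.Finite := Set.toFinite S
  have hne : S.Nonempty := by
    refine ⟨⊤, inferInstance, fun _ _ _ => Subgroup.mem_top _, ?_⟩
    intro h1
    apply hns
    have : Subsingleton G := by
      refine ⟨fun a b => ?_⟩
      have ha : a ∈ (⊥ : Subgroup G) := h1 ▸ Subgroup.mem_top a
      have hb : b ∈ (⊥ : Subgroup G) := h1 ▸ Subgroup.mem_top b
      rw [Subgroup.mem_bot.mp ha, Subgroup.mem_bot.mp hb]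
    infer_instance
  obtain ⟨N, hN⟩ := hfin.exists_minimal hne
  have hNn : N.Normal := hN.1.1
  have hNmin : ∀ K : Subgroup G, K.Normal → Inv A K → K ≤ N → K = ⊥ ∨ K = N := by
    intro K h1 h2 h3
    by_cases h4 : K = ⊥
    · exact Or.inl h4
    · exact Or.inr (le_antisymm h3 (hN.2 (y := K) ⟨h1, h2, h4⟩ h3))
  by_cases hNs : Group.IsSolvable N
  · -- induction
    apply hns
    let _ := actQ (A := A) hN.1.2.1
    have hcard : Nat.card (G ⧸ N) < n := by
      rw [← hn]
      have h1 := Subgroup.card_eq_card_quotient_mul_card_subgroup N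
      have h2 : 1 < Nat.card N := by
        rw [Finite.one_lt_card_iff_nontrivial, Subgroup.nontrivial_iff_ne_bot]
        exact hN.1.2.2
      have h3 : 0 < Nat.card (G ⧸ N) := Nat.card_pos
      rw [h1]
      nlinarith
    have h2 := ih _ hcard (G ⧸ N) inferInstance rfl
      (Nat.Coprime.coprime_dvd_right (Subgroup.card_quotient_dvd_card N) hcop) (twoCl_quotient hN.1.2.1 hcl)
    exact isSolvable_of_quotient hNs h2
  · have hB : Base A N := ⟨hNn, hN.1.2.1, hNmin, hNs⟩
    obtain ⟨T, hT⟩ := exists_minN hB.ne_bot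
    have hTs := hT.isSimpleGroup hB
    have hTn := hT.not_isSolvable hB
    by_cases hNt : N = ⊤
    · subst hNt
      let _ := actT (A := A) T
      exact S1 (stabT A T) T inferInstance inferInstance
        (Nat.Coprime.coprime_dvd_left (Subgroup.card_subgroup_dvd_card _)
          (Nat.Coprime.coprime_dvd_right (Subgroup.card_subgroup_dvd_card T) hcop))
        inferInstance (Odd.of_dvd_nat hodd (Subgroup.card_subgroup_dvd_card _)) hTs hTn (twoCl_factor hB hT hcl)
    · exact S2 T inferInstance hTs hTn (exists_bad hcop hsol hcl hB hNt hT)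

end Cfsg.Agent.H580.Reduce
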