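import Mathlib
import Cfsg.Agent.H580.ReduceA
import Cfsg.Agent.H580.LieBadFam
import Cfsg.Agent.H580.LieFam
import Cfsg.Agent.H580.LieF
import Cfsg.Agent.H743.PslTwoB
import Cfsg.Agent.H60.PsuThree
import Cfsg.Agent.H680.TwoClSzRee
import Cfsg.Agent.H748.NoTwoPower
import Cfsg.Agent.H748.NoTwoPowerSpor
import Cfsg.Agent.H584.TwoSpor
import Cfsg.Agent.H679.Table
import Cfsg.Agent.S0205

/-!
# Groups with two classes of non-nilpotent maximal invariant subgroups are solvable

* `isSolvable` : if the finite simple groups are known, a finite group `A` acts coprimely on the finite group `G` and the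
  non-nilpotent maximal `A`-invariant subgroups of `G` fall in at most two `G`-classes, then `G` is solvable.
-/

set_option autoImplicit false
open scoped Pointwise

namespace Cfsg.Agent.H580.Known

open Cfsg Subgroup Cfsg.Agent.H580.Two Cfsg.Agent.H580.Reduce

universe u v

theorem not_comm {T : Type u} [Group T] (hna : ¬ Group.IsSolvable T) : ¬ IsMulCommutative T := by
  intro h
  apply hna
  let _ : CommGroup T := { ‹Group T› with mul_comm := h.1.1 }
  infer_instance

section

variable {B : Type v} {T : Type u} [Group B] [Group T] [MulDistribMulAction B T] [Finite B] [Finite T]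

omit [Finite B] [Finite T] in
theorem triv_of_outTwo (hcop : (Nat.card B).Coprime (Nat.card T)) (hodd : Odd (Nat.card B)) (hout : H679.OutTwo T)
    (b : B) (x : T) : b • x = x := by
  obtain ⟨α, hα⟩ : ∃ α : MulAut T, α = MulDistribMulAction.toMulAut B T b := ⟨_, rfl⟩
  have h1 : α ^ (Nat.card B) = 1 := by rw [hα, ← map_pow, pow_card_eq_one', map_one]
  have h2 : α ∈ (MulAut.conj : T →* MulAut T).range := by
    obtain ⟨n, hn⟩ := hout α
    have hc : (2 ^ n).Coprime (orderOf α) := by
      apply Nat.Coprime.coprime_dvd_right (orderOf_dvd_of_pow_eq_one h1)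
      exact (Nat.coprime_two_left.mpr hodd).pow_left n
    obtain ⟨m, hm⟩ := exists_pow_eq_self_of_coprime hc
    rw [← hm]
    exact pow_mem hn m
  have h3 : α ^ Nat.card T = 1 := by
    obtain ⟨t, ht⟩ := h2
    rw [← ht, ← map_pow, pow_card_eq_one', map_one]
  have h4 : α = 1 := by
    have := pow_gcd_eq_one.mpr ⟨h1, h3⟩
    rwa [hcop, pow_one] at this
  have h5 : b • x = α x := by rw [hα]; rfl
  rw [h5, h4]
  rfl

variable [IsSimpleGroup T]

theorem false_lie (hcop : (Nat.card B).Coprime (Nat.card T)) (hsol : Group.IsSolvable B) (hodd : Odd (Nat.card B))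
    (hna : ¬ Group.IsSolvable T) (hcl : TwoCl B T) {p : ℕ} (hp : p.Prime) (hG : IsLieTypeChar p T) : False := by
  rcases LieFam.lie_cases hG with
    ⟨F, _, _, _, hF, ⟨e⟩⟩ | ⟨F, _, _, _, q, hF, hq, ⟨e⟩⟩ | ⟨rfl, h⟩ | ⟨rfl, h⟩ | ⟨rfl, h⟩ | h
  · exact H743.PslTwoB.false_psl_two hcop hsol hodd hcl hF e
  · exact H60.PsuThree.false_psu_three hcop hsol hcl hF hq e
  · exact H680.TwoClSzRee.false_suzuki hcop hsol hcl h
  · exact H680.TwoClSzRee.false_ree hcop hsol hcl h
  · exact LieF.false_of_2F4 hcop hsol hodd hna hcl h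
  · exact LieFam.false_of_rgd2 hcop hsol hodd hna hcl hp h

theorem false_twoCl (hcop : (Nat.card B).Coprime (Nat.card T)) (hsol : Group.IsSolvable B) (hodd : Odd (Nat.card B))
    (hna : ¬ Group.IsSolvable T) (hcl : TwoCl B T) (hK : IsKnownSimple' T) : False := by
  rcases OddHalf.Known.classify (not_comm hna) hK with h | ⟨p, hp, -, h⟩ | (h | h) | h
  · obtain ⟨n, hn, ⟨e⟩⟩ := h
    by_cases h6 : n = 6
    · subst h6
      exact false_lie hcop hsol hodd hna hcl Nat.prime_three (H679.isLie_six ⟨e⟩)
    · exact H584.TwoSpor.alternating ⟨n, hn, ⟨e⟩⟩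
        (hcl.twoMax (triv_of_outTwo hcop hodd ((H679.outTwo_alt hn h6).congr e)))
  · exact false_lie hcop hsol hodd hna hcl hp h
  · exact false_lie hcop hsol hodd hna hcl Nat.prime_two h
  · exact H584.TwoSpor.tits h (hcl.twoMax (triv_of_outTwo hcop hodd (H679.SporOut.tits h)))
  · exact H584.TwoSpor.sporadic h (hcl.twoMax (triv_of_outTwo hcop hodd (H679.outTwo_sporadic h)))

theorem false_bad (hna : ¬ Group.IsSolvable T) (hbad : Bad T) (hK : IsKnownSimple' T) : False := by
  have hspor : IsSporadicGroup T ∨ Lie.IsoTits T → False := by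
    intro hT
    obtain ⟨H, hHt, ⟨b, hb⟩, hH⟩ := hbad.idx
    refine H748.NoTwoPower.no_two_power_sporadic hT hHt hb fun r hr hr2 hrG => ?_
    have := Fact.mk hr
    obtain ⟨R⟩ : Nonempty (Sylow r T) := inferInstance
    obtain ⟨g, hg⟩ := hH r hr hr2 hrG R
    rw [← hb]
    exact Two.index_modEq_one (g • R) H hg
  rcases OddHalf.Known.classify (not_comm hna) hK with h | ⟨p, hp, -, h⟩ | (h | h) | h
  · obtain ⟨n, hn, ⟨e⟩⟩ := h
    obtain ⟨H, hHt, ⟨b, hb⟩, hH⟩ := hbad.idx
    exact H748.NoTwoPower.no_two_power_alternating hn e hHt hb hH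
  · exact LieBadFam.false_of_lie hna hbad h
  · exact LieBadFam.false_of_lie hna hbad h
  · exact hspor (Or.inr h)
  · exact hspor (Or.inl h)

end

/-- **Groups with two classes of non-nilpotent maximal invariant subgroups are solvable.** -/
theorem isSolvable (hS : ∀ (X : Type u) [Group X] [Finite X] [IsSimpleGroup X], IsKnownSimple' X)
    {A : Type v} {G : Type u} [Group A] [Group G] [MulDistribMulAction A G] [Finite A] [Finite G]
    (hcop : (Nat.card A).Coprime (Nat.card G)) (hcl : TwoCl A G) : Group.IsSolvable G := by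
  rcases Nat.even_or_odd (Nat.card A) with heven | hodd
  · have h2 : Odd (Nat.card G) := by
      rw [← Nat.coprime_two_left]
      exact Nat.Coprime.coprime_dvd_left heven.two_dvd hcop
    exact S0205.result h2
  · refine isSolvable_of_twoCl (S0205.result hodd) hodd ?_ ?_ _ G inferInstance rfl hcop hcl
    · intro B T _ _ _ hB hT hcop hsol hodd hsimp hna hcl
      exact false_twoCl hcop hsol hodd hna hcl (hS T)
    · intro T _ hT hsimp hna hbad
      exact false_bad hna hbad (hS T)

end Cfsg.Agent.H580.Known
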